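import Cfsg.Agent.H453.Gs.Alt
import Cfsg.Agent.H915.Gs.Conv

/-!
# S4327, `SL_n(F)`: assembly for the non-linear automorphisms (helper453)

`nonlin_of` : from the four START statements, every automorphism `x` of prime order of `PSL_n(F)`, `n ≥ 3`, which is
not induced by `GL_n(F)` satisfies `Reach x 11 ⊤`.
-/

set_option autoImplicit false

namespace Cfsg.Agent.H453.Gs

open Matrix Cfsg.Agent.H127.Gs Cfsg.Agent.ClassicalGeometry.AutPSL.Auto Cfsg.Agent.H514.DP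
open Cfsg.Agent.ClassicalGeometry.AutPSL.Root
open Cfsg.Agent.H915.Gs hiding cj

variable {F : Type*} [Field F] {n : ℕ}

theorem im_top {Γ : Type*} [Group Γ] (b : MulAut Γ) : im b ⊤ = ⊤ :=
  Subgroup.map_top_of_surjective _ b.surjective

/-- conjugate automorphisms -/
theorem reach_conj_top {Γ : Type*} [Group Γ] {a b : MulAut Γ} {k : ℕ} (h : Reach a k ⊤) : Reach (b * a * b⁻¹) k ⊤ := by
  have h1 : b⁻¹ * (b * a * b⁻¹) * b⁻¹⁻¹ = a := by group
  have h2 : Reach (b⁻¹ * (b * a * b⁻¹) * b⁻¹⁻¹) k ⊤ := by rw [h1]; exact h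
  have h3 := h2.of_mul_conj
  rwa [im_top] at h3

/-- to `PSL` -/
theorem reach_lift {ι : Type*} [Fintype ι] [DecidableEq ι] {a : MulAut (Matrix.SpecialLinearGroup ι F)} {k : ℕ}
    (h : Reach a k ⊤) : Reach (lift a) k ⊤ := h.transfer_top pr_surjective (lift_pr a)

/-- change of the form -/
theorem da_congr {ι : Type*} [Fintype ι] [DecidableEq ι] {h h0 P : GL ι F} {σ : F ≃+* F}
    (e : h.1 = P.1 * h0.1 * (P.1.map σ)ᵀ) : da h σ = cj P * da h0 σ * (cj P)⁻¹ := by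
  ext1 g
  have e0 : (cj P * da h0 σ * (cj P)⁻¹) g = cj P (da h0 σ (cj P⁻¹ g)) := by
    rw [MulAut.mul_apply, MulAut.mul_apply, ← map_inv]
  rw [e0, ← _root_.inv_inj, ← map_inv (cj P)]
  apply Subtype.ext
  rw [da_inv]
  have hP : P.1 * (P⁻¹).1 = 1 := by rw [← Units.val_mul, mul_inv_cancel, Units.val_one]
  have hP' : (P⁻¹).1 * P.1 = 1 := by rw [← Units.val_mul, inv_mul_cancel, Units.val_one]
  have h1 : ((cj P) ((da h0 σ) ((cj P⁻¹) g))⁻¹).1 = P.1 * (h0.1 * (((P⁻¹).1 * g.1 * P.1).map σ)ᵀ * (h0⁻¹).1) * (P⁻¹).1 := by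
    rw [coe_cj, da_inv, coe_cj, inv_inv]
  rw [h1]
  have hh : h.1 * (h⁻¹).1 = 1 := by rw [← Units.val_mul, mul_inv_cancel, Units.val_one]
  have hh' : (h⁻¹).1 * h.1 = 1 := by rw [← Units.val_mul, inv_mul_cancel, Units.val_one]
  have h0' : (h0⁻¹).1 * h0.1 = 1 := by rw [← Units.val_mul, inv_mul_cancel, Units.val_one]
  have hm : ∀ A B : Matrix ι ι F, (A * B).map σ = A.map σ * B.map σ := fun A B => Matrix.map_mul
  have hs : ((P⁻¹).1.map σ)ᵀ * (P.1.map σ)ᵀ = 1 := by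
    rw [← transpose_mul, ← hm, hP]
    ext i j
    rw [transpose_apply, map_apply, one_apply, one_apply]
    by_cases hij : i = j
    · rw [if_pos hij, if_pos hij.symm, map_one]
    · rw [if_neg hij, if_neg (Ne.symm hij), map_zero]
  have key : P.1 * (h0.1 * (((P⁻¹).1 * g.1 * P.1).map σ)ᵀ * (h0⁻¹).1) * (P⁻¹).1 * h.1 = h.1 * (g.1.map σ)ᵀ := by
    rw [e, hm, hm, transpose_mul, transpose_mul]
    calc P.1 * (h0.1 * ((P.1.map σ)ᵀ * ((g.1.map σ)ᵀ * ((P⁻¹).1.map σ)ᵀ)) * (h0⁻¹).1) * (P⁻¹).1 *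
          (P.1 * h0.1 * (P.1.map σ)ᵀ)
        = P.1 * h0.1 * (P.1.map σ)ᵀ * (g.1.map σ)ᵀ * ((P⁻¹).1.map σ)ᵀ * (h0⁻¹).1 * ((P⁻¹).1 * P.1) * h0.1 *
          (P.1.map σ)ᵀ := by simp only [Matrix.mul_assoc]
      _ = P.1 * h0.1 * (P.1.map σ)ᵀ * (g.1.map σ)ᵀ * ((P⁻¹).1.map σ)ᵀ * ((h0⁻¹).1 * h0.1) * (P.1.map σ)ᵀ := by
          rw [hP', Matrix.mul_one]
          simp only [Matrix.mul_assoc]
      _ = P.1 * h0.1 * (P.1.map σ)ᵀ * (g.1.map σ)ᵀ * (((P⁻¹).1.map σ)ᵀ * (P.1.map σ)ᵀ) := by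
          rw [h0', Matrix.mul_one]
          simp only [Matrix.mul_assoc]
      _ = _ := by rw [hs, Matrix.mul_one]
  calc h.1 * (g.1.map σ)ᵀ * (h⁻¹).1
      = P.1 * (h0.1 * (((P⁻¹).1 * g.1 * P.1).map σ)ᵀ * (h0⁻¹).1) * (P⁻¹).1 * h.1 * (h⁻¹).1 := by rw [key]
    _ = _ := by rw [Matrix.mul_assoc _ h.1, hh, Matrix.mul_one]

theorem dG_one {ι : Type*} [Fintype ι] [DecidableEq ι] : dG (fun _ : ι => (1 : Fˣ)) = 1 := by
  apply Units.ext
  change diagonal _ = _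
  simp

/-- field automorphisms, from START in `SL_3` -/
theorem semi_top {σ : F ≃+* F} (hσ : σ ≠ 1) (hn : 3 ≤ n) {t : ℕ} (ht : t ≤ 8)
    (h : ∃ u : Fin t → Matrix.SpecialLinearGroup (Fin 3) F, El (Kz (fld σ) u) 0 1 ∧ El (Kz (fld σ) u) 1 0) :
    Reach (fld σ : MulAut (Matrix.SpecialLinearGroup (Fin n) F)) 11 ⊤ := by
  obtain ⟨u, h01, h10⟩ := h
  have h1 := reach₁_El (a := (fld σ : MulAut (Matrix.SpecialLinearGroup (Fin n) F))) (Fin.castLEEmb hn)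
    (fun g => fld_emb (Fin.castLEEmb hn) σ g) (u := u) (I := lo 3 2) (by
      intro i hi j hj hij
      rw [mem_lo] at hi hj
      fin_cases i <;> fin_cases j <;> simp at hi hj hij
      · exact h01
      · exact h10)
  rw [map_lo hn (by norm_num)] at h1
  exact (reach_semi hσ le_rfl h1).mono (by omega) (by omega)

/-- unitary graph automorphisms, from START in `SL_3` -/
theorem herm_top {σ : F ≃+* F} (hn : 3 ≤ n) {t : ℕ} (ht : t ≤ 8)
    (h : ∃ u : Fin t → Matrix.SpecialLinearGroup (Fin 3) F,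
      El (Kz (da (1 : GL (Fin 3) F) σ) u) 0 1 ∧ El (Kz (da (1 : GL (Fin 3) F) σ) u) 1 0) :
    Reach (da (1 : GL (Fin n) F) σ) 11 ⊤ := by
  obtain ⟨u, h01, h10⟩ := h
  have h1 := reach₁_El (a := da (dG fun _ : Fin n => (1 : Fˣ)) σ) (α := da (dG fun _ : Fin 3 => (1 : Fˣ)) σ)
    (Fin.castLEEmb hn) (fun g => da_dG_emb (Fin.castLEEmb hn) _ σ g) (u := u) (I := lo 3 2) (by
      intro i hi j hj hij
      rw [dG_one]
      rw [mem_lo] at hi hj
      fin_cases i <;> fin_cases j <;> simp at hi hj hij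
      · exact h01
      · exact h10)
  rw [map_lo hn (by norm_num)] at h1
  have h2 := (reach_diag le_rfl h1).mono (k' := 11) (by omega) (by omega)
  rwa [dG_one] at h2

/-- **non-linear automorphisms, from the START statements** -/
theorem nonlin_of [Fintype F] (hn : 3 ≤ n)
    (hA : ∀ σ : F ≃+* F, σ ≠ 1 → ∃ u : Fin 3 → Matrix.SpecialLinearGroup (Fin 3) F,
      El (Kz (fld σ) u) 0 1 ∧ El (Kz (fld σ) u) 1 0)
    (hB : ∀ σ : F ≃+* F, σ ≠ 1 → (∀ x, σ (σ x) = x) → ∃ u : Fin 3 → Matrix.SpecialLinearGroup (Fin 3) F,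
      El (Kz (da (1 : GL (Fin 3) F) σ) u) 0 1 ∧ El (Kz (da (1 : GL (Fin 3) F) σ) u) 1 0)
    (hC : ∃ u : Fin 8 → Matrix.SpecialLinearGroup (Fin 4) F, Kz (da (J4 F) 1) u = ⊤)
    (x : MulAut (Matrix.ProjectiveSpecialLinearGroup (Fin n) F)) (hx : (orderOf x).Prime) :
    (∃ g : GL (Fin n) F, x = Cfsg.Agent.H199.PslAut.Psi n F g) ∨ Reach x 11 ⊤ := by
  have halt : ∀ h : GL (Fin n) F, h.1ᵀ = -h.1 → (∀ i, h.1 i i = 0) → Reach (da h 1) 11 ⊤ := by
    intro h h1 h2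
    obtain ⟨he, P, hP⟩ := Cfsg.Agent.H253.Gs.alt_nf h h1 h2
    have h4 : 4 ≤ n := by
      obtain ⟨m, rfl⟩ := he
      omega
    obtain ⟨u, hu⟩ := hC
    rw [da_congr (h0 := JG F he) (P := P) (by rw [map_one_eq]; exact hP)]
    exact reach_conj_top (alt_top he h4 hu)
  rcases Cfsg.Agent.H915.GsConv.conv hn x hx with h | ⟨b, σ, hσ, rfl⟩ | ⟨h, σ, h2, rfl, ⟨hσ, hh⟩ | ⟨rfl, hh⟩ | ⟨rfl, hh, hd⟩⟩
  · exact Or.inl h
  · right
    exact reach_lift (reach_conj_top (semi_top hσ hn (by norm_num) (hA σ hσ)))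
  · right
    refine reach_lift ?_
    obtain ⟨P, hP⟩ := Cfsg.Agent.H253.Gs.herm_nf hσ h2 h hh
    change Reach (da h σ) 11 ⊤
    rw [da_congr (h0 := 1) (P := P) (by rw [Units.val_one, mul_one]; exact hP)]
    exact reach_conj_top (herm_top hn (by norm_num) (hB σ hσ h2))
  · right
    refine reach_lift ?_
    change Reach (da h 1) 11 ⊤
    by_cases h20 : (2 : F) = 0
    · by_cases hd : ∃ i, h.1 i i ≠ 0
      · obtain ⟨P, hP⟩ := Cfsg.Agent.H253.Gs.symm_nf_even h20 h hh hd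
        rw [da_congr (h0 := dG fun _ => 1) (P := P) (by rw [map_one_eq, dG_one, Units.val_one, mul_one]; exact hP)]
        exact reach_conj_top (symm_even h20 hn)
      · push Not at hd
        refine halt h ?_ hd
        rw [hh]
        ext i j
        rw [Matrix.neg_apply]
        linear_combination (h.1 i j) * h20
    · obtain ⟨P, d, hd0, hd1, hP⟩ := Cfsg.Agent.H253.Gs.symm_nf_odd h20 hn h hh
      rw [da_congr (h0 := dG d) (P := P) (by rw [map_one_eq]; exact hP)]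
      exact reach_conj_top (symm_odd h20 (by omega) hd0 hd1)
  · right
    exact reach_lift (halt h hh hd)

end Cfsg.Agent.H453.Gs
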