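import Cfsg.Agent.H453.Gs.Grow
import Cfsg.Agent.H514.DP.Emb
import Cfsg.Agent.H199.PslAut

/-!
# S4327, `SL_n(F)`: semilinear and dual automorphisms in normal form, growth (helper453)

* `reach_diag` : `a = cj (dG d) * fld σ * itr`, from `SL_m`, `m ≥ 2`, to everything with two more conjugates;
* `reach_semi` : `a = fld σ`;
* `reach_alt` : `a = cj J * itr`, `m ≥ 4`;
* `reach₁_emb` : START inside an embedded `SL_κ`.
-/

set_option autoImplicit false

namespace Cfsg.Agent.H453.Gs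

open Matrix Cfsg.Agent.H127.Gs Cfsg.Agent.ClassicalGeometry.AutPSL.Auto Cfsg.Agent.H514.DP
open Cfsg.Agent.H915.Gs hiding cj

section diag

variable {F : Type*} [Field F] {ι κ : Type*} [Fintype ι] [DecidableEq ι] [Fintype κ] [DecidableEq κ]

/-- diagonal matrices in `GL` -/
def dG (d : ι → Fˣ) : GL ι F where
  val := diagonal fun i => (d i : F)
  inv := diagonal fun i => ((d i)⁻¹ : Fˣ)
  val_inv := by
    rw [diagonal_mul_diagonal, ← diagonal_one]
    congr 1
    ext i
    rw [Units.mul_inv]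
  inv_val := by
    rw [diagonal_mul_diagonal, ← diagonal_one]
    congr 1
    ext i
    rw [Units.inv_mul]

theorem cj_dG_apply (d : ι → Fˣ) (g : Matrix.SpecialLinearGroup ι F) (i j : ι) :
    (cj (dG d) g).1 i j = (d i : F) * g.1 i j * ((d j)⁻¹ : Fˣ) := by
  change (diagonal (fun i => (d i : F)) * g.1 * diagonal (fun i => (((d i)⁻¹ : Fˣ) : F))) i j = _
  rw [mul_diagonal, diagonal_mul]

/-- the automorphism `g ↦ h σ(g)^{-T} h⁻¹` -/
def da (h : GL ι F) (σ : F ≃+* F) : MulAut (Matrix.SpecialLinearGroup ι F) := cj h * fld σ * itr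

theorem da_apply (h : GL ι F) (σ : F ≃+* F) (g : Matrix.SpecialLinearGroup ι F) :
    da h σ g = cj h (fld σ (itr g)) := rfl

theorem itr_emb (f : κ ↪ ι) (g : Matrix.SpecialLinearGroup κ F) : itr (emb f g) = emb f (itr g) := by
  apply Subtype.ext
  rw [coe_itr, ← map_inv]
  refine eq_embM f _ _ (fun i j => ?_) (fun x y hx => ?_) (fun x y hy => ?_)
  · rw [transpose_apply, emb_coe, embM_apply, coe_itr, transpose_apply]
  · rw [transpose_apply, emb_coe, embM_right f _ _ hx, one_apply, one_apply]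
    simp only [eq_comm]
  · rw [transpose_apply, emb_coe, embM_left f _ hy, one_apply, one_apply]
    simp only [eq_comm]

theorem fld_emb (f : κ ↪ ι) (σ : F ≃+* F) (g : Matrix.SpecialLinearGroup κ F) :
    fld σ (emb f g) = emb f (fld σ g) := by
  apply Subtype.ext
  have h1 : ∀ x y : ι, σ ((1 : Matrix ι ι F) x y) = (1 : Matrix ι ι F) x y := by
    intro x y
    rw [one_apply]
    split_ifs <;> simp
  refine eq_embM f _ _ (fun i j => ?_) (fun x y hx => ?_) (fun x y hy => ?_)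
  · rw [coe_fld_apply, emb_coe, embM_apply, coe_fld_apply]
  · rw [coe_fld_apply, emb_coe, embM_left f _ hx, h1]
  · rw [coe_fld_apply, emb_coe, embM_right f _ _ hy, h1]

theorem cj_dG_emb (f : κ ↪ ι) (d : ι → Fˣ) (g : Matrix.SpecialLinearGroup κ F) :
    cj (dG d) (emb f g) = emb f (cj (dG (d ∘ f)) g) := by
  apply Subtype.ext
  have h1 : ∀ x y : ι, (d x : F) * (1 : Matrix ι ι F) x y * ((d y)⁻¹ : Fˣ) = (1 : Matrix ι ι F) x y := by
    intro x y
    rw [one_apply]
    split_ifs with h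
    · rw [h, mul_one, Units.mul_inv]
    · simp
  refine eq_embM f _ _ (fun i j => ?_) (fun x y hx => ?_) (fun x y hy => ?_)
  · rw [cj_dG_apply, emb_coe, embM_apply, cj_dG_apply]
    rfl
  · rw [cj_dG_apply, emb_coe, embM_left f _ hx, h1]
  · rw [cj_dG_apply, emb_coe, embM_right f _ _ hy, h1]

theorem da_dG_emb (f : κ ↪ ι) (d : ι → Fˣ) (σ : F ≃+* F) (g : Matrix.SpecialLinearGroup κ F) :
    da (dG d) σ (emb f g) = emb f (da (dG (d ∘ f)) σ g) := by
  rw [da_apply, itr_emb, fld_emb, cj_dG_emb, da_apply]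

/-- START inside an embedded group -/
theorem reach₁_hom {Γ Δ : Type*} [Group Γ] [Group Δ] {a : MulAut Γ} {α : Δ → Δ} (ψ : Δ →* Γ)
    (hα : ∀ g, a (ψ g) = ψ (α g)) {t : ℕ} (u : Fin t → Δ)
    (hu : Subgroup.closure (Set.range fun i => u i * (α (u i))⁻¹) = ⊤) : Reach₁ a t ψ.range := by
  refine (Reach₁.comm a (fun i => ψ (u i))).sub ?_
  rw [MonoidHom.range_eq_map, ← hu, MonoidHom.map_closure, Subgroup.closure_le]
  rintro _ ⟨_, ⟨i, rfl⟩, rfl⟩
  apply Subgroup.subset_closure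
  refine ⟨i, ?_⟩
  change ψ (u i) * (a (ψ (u i)))⁻¹ = ψ (u i * (α (u i))⁻¹)
  rw [hα, map_mul, map_inv]

theorem emb_tv (f : κ ↪ ι) (i j : κ) (hij : i ≠ j) (t : F) :
    emb f (tv (Pi.single i t) (Pi.single j 1)) = tv (Pi.single (f i) t) (Pi.single (f j) 1) := by
  apply Subtype.ext
  have hf : f i ≠ f j := fun h => hij (f.injective h)
  rw [emb_coe]
  symm
  have e1 := coe_tv (v := (Pi.single i t : κ → F)) (f := Pi.single j 1) (by simp [hij])
  have e2 := coe_tv (v := (Pi.single (f i) t : ι → F)) (f := Pi.single (f j) 1) (by simp [hf])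
  rw [e1, e2]
  refine eq_embM f _ _ (fun k l => ?_) (fun x y hx => ?_) (fun x y hy => ?_)
  · rw [Matrix.add_apply, Matrix.add_apply, vecMulVec_apply, vecMulVec_apply, one_apply, one_apply]
    simp only [f.injective.eq_iff, Pi.single_apply]
  · have : x ≠ f i := fun h => hx ⟨i, h.symm⟩
    rw [Matrix.add_apply, vecMulVec_apply, Pi.single_apply, if_neg this, zero_mul, add_zero]
  · have : y ≠ f j := fun h => hy ⟨j, h.symm⟩
    rw [Matrix.add_apply, vecMulVec_apply, Pi.single_apply (f j), if_neg this, mul_zero, add_zero]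

theorem natG_le_emb (f : κ ↪ ι) (I : Finset ι) (hI : ∀ i ∈ I, i ∈ Set.range f) :
    NatG F I ≤ (emb f : Matrix.SpecialLinearGroup κ F →* _).range := by
  apply Full.natG
  intro i hi j hj hij t
  obtain ⟨k, rfl⟩ := hI i hi
  obtain ⟨l, rfl⟩ := hI j hj
  exact ⟨_, emb_tv f k l (fun h => hij (h ▸ rfl)) t⟩

end diag

section fin

variable {F : Type*} [Field F] {n : ℕ}

/-- the weights of the lower element -/
def wt (s : ℕ) (d : Fin n → Fˣ) (σ : F ≃+* F) (w : Fin n → F) : Fin n → F := fun j =>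
  if h : (j : ℕ) + s < n then (d ⟨j + s, h⟩ : F) * σ (w j) * ((d j)⁻¹ : Fˣ) else 1

variable {s : ℕ} {S : ℕ → Prop} [DecidablePred S] {hs : 1 ≤ s}

theorem itr_uN (hS : ∀ i, S i → ¬ S (i + s)) (w : Fin n → F) : itr (uN hs S w) = lN hs S (-w) := by
  apply Subtype.ext
  rw [coe_itr, uN_inv hS, coe_uN, transpose_add, transpose_one]
  rfl

theorem fld_lN (σ : F ≃+* F) (w : Fin n → F) : fld σ (lN hs S w) = lN hs S (fun i => σ (w i)) := by
  apply Subtype.ext
  ext i j
  rw [coe_fld_apply, coe_lN, coe_lN, Matrix.add_apply, Matrix.add_apply, map_add, one_apply, transpose_apply,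
    transpose_apply, Nw_apply, Nw_apply]
  split_ifs <;> simp

theorem fld_uN (σ : F ≃+* F) (w : Fin n → F) : fld σ (uN hs S w) = uN hs S (fun i => σ (w i)) := by
  apply Subtype.ext
  ext i j
  rw [coe_fld_apply, coe_uN, coe_uN, Matrix.add_apply, Matrix.add_apply, map_add, one_apply, Nw_apply, Nw_apply]
  split_ifs <;> simp

theorem da_uN (hS : ∀ i, S i → ¬ S (i + s)) (d : Fin n → Fˣ) (σ : F ≃+* F) (w : Fin n → F) :
    (da (dG d) σ (uN hs S w))⁻¹ = lN hs S (wt s d σ w) := by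
  rw [da_apply, itr_uN hS, fld_lN, ← map_inv, lN_inv hS]
  apply Subtype.ext
  ext i j
  rw [cj_dG_apply, coe_lN, coe_lN, Matrix.add_apply, Matrix.add_apply, one_apply, transpose_apply,
    transpose_apply, Nw_apply, Nw_apply]
  by_cases hij : i = j
  · subst hij
    rw [if_pos rfl, if_neg (by omega), if_neg (by omega), add_zero, mul_one, Units.mul_inv]
  · rw [if_neg hij, zero_add, zero_add]
    by_cases h : (i : ℕ) = j + s ∧ S j
    · rw [if_pos h, if_pos h]
      have h1 : (j : ℕ) + s < n := by rw [← h.1]; exact i.2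
      have h2 : (⟨(j : ℕ) + s, h1⟩ : Fin n) = i := Fin.ext h.1.symm
      simp only [wt, dif_pos h1, h2, Pi.neg_apply, map_neg, neg_neg]
    · rw [if_neg h, if_neg h, mul_zero, zero_mul]

theorem wt_ne {d : Fin n → Fˣ} {σ : F ≃+* F} {w : Fin n → F} (hw : ∀ i, w i ≠ 0) (i : Fin n) : wt s d σ w i ≠ 0 := by
  unfold wt
  split_ifs with h
  · exact mul_ne_zero (mul_ne_zero (Units.ne_zero _) ((map_ne_zero σ).2 (hw i))) (Units.ne_zero _)
  · exact one_ne_zero

/-- two more conjugates -/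
theorem Reach₁.two {a : MulAut (Matrix.SpecialLinearGroup (Fin n) F)} {t : ℕ}
    {J : Subgroup (Matrix.SpecialLinearGroup (Fin n) F)} (h : Reach₁ a t J)
    (u : ℕ → Matrix.SpecialLinearGroup (Fin n) F)
    (hT : ∀ H : Subgroup (Matrix.SpecialLinearGroup (Fin n) F), J ≤ H → (∀ p < 2, u p * (a (u p))⁻¹ ∈ H) → H = ⊤) :
    Reach a (t + 3) ⊤ := by
  have h1 := ((h.add (u 0)).add (u 1)).reach
  have h2 := hT _ (le_sup_left.trans le_sup_left : J ≤ J ⊔ Subgroup.zpowers (u 0 * (a (u 0))⁻¹) ⊔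
      Subgroup.zpowers (u 1 * (a (u 1))⁻¹)) (by
    intro p hp
    obtain rfl | rfl : p = 0 ∨ p = 1 := by omega
    · exact Subgroup.mem_sup_left (Subgroup.mem_sup_right (Subgroup.mem_zpowers _))
    · exact Subgroup.mem_sup_right (Subgroup.mem_zpowers _))
  rwa [h2] at h1

/-- **growth, dual automorphisms with a diagonal form** -/
theorem reach_diag {d : Fin n → Fˣ} {σ : F ≃+* F} {t m : ℕ} (hm : 2 ≤ m)
    (h : Reach₁ (da (dG d) σ) t (NatG F (lo n m))) : Reach (da (dG d) σ) (t + 3) ⊤ := by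
  have hS : ∀ p i : ℕ, i % 2 = p → ¬ (i + 1) % 2 = p := by intro p i hi; omega
  refine Reach₁.two h (fun p => uN le_rfl (fun i => i % 2 = p) (fun _ => 1)) fun H hJ hH => ?_
  refine grow_top (s := 1) le_rfl (by omega) (S := fun p i => i % 2 = p) hS
    (fun i => ⟨i % 2, Nat.mod_lt _ (by norm_num), rfl⟩) hJ _ hH ?_ ?_ ?_
  · intro p _
    rw [da_uN (hS p)]
    exact (BD_uN _).mul (hS p) (BD_lN _)
  · intro p _
    rw [da_uN (hS p), _root_.mul_inv_rev, lN_inv (hS p), uN_inv (hS p)]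
    exact (BD_lN _).mul (hS p) (BD_uN _)
  · intro p _ i j hi hij
    rw [da_uN (hS p)]
    exact ul_ne (hS p) (fun _ => one_ne_zero) (fun i => wt_ne (fun _ => one_ne_zero) i) hi hij

/-- **growth, field automorphisms** -/
theorem reach_semi {σ : F ≃+* F} (hσ : σ ≠ 1) {t m : ℕ} (hm : 2 ≤ m)
    (h : Reach₁ (fld σ) t (NatG F (lo n m))) : Reach (fld σ : MulAut (Matrix.SpecialLinearGroup (Fin n) F)) (t + 3) ⊤ := by
  have hS : ∀ p i : ℕ, i % 2 = p → ¬ (i + 1) % 2 = p := by intro p i hi; omega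
  obtain ⟨y, hy⟩ : ∃ y, σ y ≠ y := by
    by_contra h
    push Not at h
    exact hσ (RingEquiv.ext h)
  have hκ : y - σ y ≠ 0 := sub_ne_zero.2 (Ne.symm hy)
  refine Reach₁.two h (fun p => uN le_rfl (fun i => i % 2 = p) (fun _ => 1) *
    lN le_rfl (fun i => i % 2 = p) (fun _ => y)) fun H hJ hH => ?_
  have hz : ∀ p : ℕ, (uN le_rfl (fun i => i % 2 = p) (fun _ => 1) * lN le_rfl (fun i => i % 2 = p) (fun _ => y)) *
      (fld σ (uN le_rfl (fun i => i % 2 = p) (fun _ : Fin n => 1) * lN le_rfl (fun i => i % 2 = p) (fun _ => y)))⁻¹ =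
      uN le_rfl (fun i => i % 2 = p) (fun _ => 1) * lN le_rfl (fun i => i % 2 = p) (fun _ => y - σ y) *
        uN le_rfl (fun i => i % 2 = p) (fun _ => -1) := by
    intro p
    have e1 : (lN le_rfl (fun i => i % 2 = p) (fun _ : Fin n => y - σ y)) =
        lN le_rfl (fun i => i % 2 = p) (fun _ => y) * (lN le_rfl (fun i => i % 2 = p) (fun _ => σ y))⁻¹ := by
      rw [lN_inv (hS p), lN_mul (hS p)]
      congr 1
      ext i
      simp [sub_eq_add_neg]
    have e2 : uN le_rfl (fun i => i % 2 = p) (fun _ : Fin n => (-1 : F)) =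
        (uN le_rfl (fun i => i % 2 = p) (fun _ => 1))⁻¹ := by
      rw [uN_inv (hS p)]
      rfl
    rw [map_mul, fld_uN, fld_lN, e1, e2]
    simp only [map_one]
    group
  refine grow_top (s := 1) le_rfl (by omega) (S := fun p i => i % 2 = p) hS
    (fun i => ⟨i % 2, Nat.mod_lt _ (by norm_num), rfl⟩) hJ _ hH ?_ ?_ ?_
  · intro p _
    rw [hz]
    exact ((BD_uN _).mul (hS p) (BD_lN _)).mul (hS p) (BD_uN _)
  · intro p _
    rw [hz, _root_.mul_inv_rev, _root_.mul_inv_rev, lN_inv (hS p), uN_inv (hS p), uN_inv (hS p)]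
    exact (BD_uN _).mul (hS p) ((BD_lN _).mul (hS p) (BD_uN _))
  · intro p _ i j hi hij
    rw [hz]
    exact ulu_ne (hS p) hκ hi hij

end fin

end Cfsg.Agent.H453.Gs
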