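import Cfsg.Agent.H127.Gs.Nat

/-!
# S4327, `SL_n(F)`: growth with block-diagonal elements (helper453)

* `Full H I` : `H` contains the elementary transvections on `I`; `Full.natG`;
* `grow_step` : one step, with an element `z ∈ H` with prescribed supports;
* `BD p z` : `z` is block diagonal for the pairs `(i, i+1)`, `i % 2 = p`;
* `grow_top` : from `SL_m`, `m ≥ 2`, to everything, with one block-diagonal element of each parity.
-/

set_option autoImplicit false

namespace Cfsg.Agent.H453.Gs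

open Matrix Cfsg.Agent.H915.Gs Cfsg.Agent.H127.Gs

section general

variable {F : Type*} [Field F] {ι : Type*} [Fintype ι] [DecidableEq ι]

/-- `H` contains the elementary transvections on `I` -/
def Full (H : Subgroup (Matrix.SpecialLinearGroup ι F)) (I : Finset ι) : Prop :=
  ∀ i ∈ I, ∀ j ∈ I, i ≠ j → ∀ t : F, tv (Pi.single i t) (Pi.single j 1) ∈ H

variable {H : Subgroup (Matrix.SpecialLinearGroup ι F)} {I : Finset ι}

theorem Full.of_natG (h : NatG F I ≤ H) : Full H I := fun i hi j hj hij t =>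
  h (hasT_NatG I _ (single_mem_cs hi t) _ (single_mem_cs hj 1) (by simp [hij]))

theorem Full.mono (h : Full H I) {J : Finset ι} (hJ : J ⊆ I) : Full H J := fun i hi j hj => h i (hJ hi) j (hJ hj)

/-- a column: `tv b (single c 1) ∈ H` for `b` supported on `I` -/
theorem Full.col {c : ι} (hc : c ∉ I) (h : ∀ i ∈ I, ∀ t : F, tv (Pi.single i t) (Pi.single c 1) ∈ H) :
    ∀ b ∈ cs (F := F) I, tv b (Pi.single c 1) ∈ H := by
  classical
  induction I using Finset.induction_on with
  | empty =>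
    intro b hb
    have : b = 0 := funext fun i => hb i (Finset.notMem_empty i)
    rw [this, tv_zero_left]
    exact one_mem _
  | insert a s ha ih =>
    intro b hb
    have hca : c ≠ a := fun h => hc (h ▸ Finset.mem_insert_self _ _)
    have hcs : c ∉ s := fun h => hc (Finset.mem_insert_of_mem h)
    have h1 : b - Pi.single a (b a) ∈ cs (F := F) s := by
      intro i hi
      by_cases hia : i = a
      · subst hia; simp
      · have := hb i (by rw [Finset.mem_insert, not_or]; exact ⟨hia, hi⟩)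
        simp [hia, this]
    have h2 : b = (b - Pi.single a (b a)) + Pi.single a (b a) := by abel
    rw [h2, tv_add_left (by rw [single_dotProduct, h1 c hcs, mul_zero]) (by simp [hca])]
    exact mul_mem (ih hcs (fun i hi => h i (Finset.mem_insert_of_mem hi)) _ h1)
      (h a (Finset.mem_insert_self _ _) _)

/-- a row: `tv (single c 1) p ∈ H` for `p` supported on `I` -/
theorem Full.row {c : ι} (hc : c ∉ I) (h : ∀ i ∈ I, ∀ t : F, tv (Pi.single c t) (Pi.single i 1) ∈ H) :
    ∀ b ∈ cs (F := F) I, tv (Pi.single c 1) b ∈ H := by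
  classical
  induction I using Finset.induction_on with
  | empty =>
    intro b hb
    have : b = 0 := funext fun i => hb i (Finset.notMem_empty i)
    rw [this, tv_zero_right]
    exact one_mem _
  | insert a s ha ih =>
    intro b hb
    have hca : c ≠ a := fun h => hc (h ▸ Finset.mem_insert_self _ _)
    have hcs : c ∉ s := fun h => hc (Finset.mem_insert_of_mem h)
    have h1 : b - Pi.single a (b a) ∈ cs (F := F) s := by
      intro i hi
      by_cases hia : i = a
      · subst hia; simp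
      · have := hb i (by rw [Finset.mem_insert, not_or]; exact ⟨hia, hi⟩)
        simp [hia, this]
    have h2 : b = (b - Pi.single a (b a)) + Pi.single a (b a) := by abel
    have h3 : tv (Pi.single c 1) (Pi.single a (b a)) = tv (Pi.single c (b a)) (Pi.single a (1 : F)) := by
      have h4 : (Pi.single c (b a) : ι → F) = (b a) • Pi.single c 1 := by
        rw [← Pi.single_smul', smul_eq_mul, mul_one]
      rw [h4, tv_smul_left (b a) (by simp [hca]), ← Pi.single_smul', smul_eq_mul, mul_one]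
    rw [h2, tv_add_right (by rw [dotProduct_single, h1 c hcs, zero_mul]) (by simp [hca])]
    refine mul_mem (ih hcs (fun i hi => h i (Finset.mem_insert_of_mem hi)) _ h1) ?_
    rw [h3]
    exact h a (Finset.mem_insert_self _ _) _

/-- **the elementary transvections generate the natural group** -/
theorem Full.hasT (h : Full H I) : HasT H (cs I) (cs I) := by
  classical
  induction I using Finset.induction_on with
  | empty =>
    intro v hv f hf _
    have : v = 0 := funext fun i => hv i (Finset.notMem_empty i)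
    rw [this, tv_zero_left]
    exact one_mem _
  | insert c s hc ih =>
    have hT := ih (h.mono (Finset.subset_insert _ _))
    have hL : ∀ b ∈ cs (F := F) s, tv b (Pi.single c 1) ∈ H :=
      Full.col hc fun i hi t => h i (Finset.mem_insert_of_mem hi) c (Finset.mem_insert_self _ _)
        (fun h => hc (h ▸ hi)) t
    have hR : ∀ b ∈ cs (F := F) s, tv (Pi.single c 1) b ∈ H :=
      Full.row hc fun i hi t => h c (Finset.mem_insert_self _ _) i (Finset.mem_insert_of_mem hi)
        (fun h => hc (h ▸ hi)) t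
    intro v hv f hf hvf
    obtain ⟨a, ha, s', rfl⟩ : ∃ a ∈ cs (F := F) s, ∃ s' : F, v = a + s' • Pi.single c 1 := by
      refine ⟨v - Pi.single c (v c), ?_, v c, ?_⟩
      · intro i hi
        by_cases hic : i = c
        · subst hic; simp
        · have := hv i (by rw [Finset.mem_insert, not_or]; exact ⟨hic, hi⟩)
          simp [hic, this]
      · rw [← Pi.single_smul', smul_eq_mul, mul_one]
        abel
    obtain ⟨φ, hφ, t, rfl⟩ : ∃ a ∈ cs (F := F) s, ∃ s' : F, f = a + s' • Pi.single c 1 := by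
      refine ⟨f - Pi.single c (f c), ?_, f c, ?_⟩
      · intro i hi
        by_cases hic : i = c
        · subst hic; simp
        · have := hf i (by rw [Finset.mem_insert, not_or]; exact ⟨hic, hi⟩)
          simp [hic, this]
      · rw [← Pi.single_smul', smul_eq_mul, mul_one]
        abel
    have e1 : φ ⬝ᵥ (Pi.single c 1 : ι → F) = 0 := by rw [dotProduct_single, hφ c hc, zero_mul]
    have e2 : (Pi.single c 1 : ι → F) ⬝ᵥ a = 0 := by rw [single_dotProduct, ha c hc, mul_zero]
    have ecc : (Pi.single c 1 : ι → F) ⬝ᵥ Pi.single c 1 = 1 := by simp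
    have e3 : φ ⬝ᵥ a + t * s' = 0 := by
      have := hvf
      rw [add_dotProduct, dotProduct_add, dotProduct_add, dotProduct_smul, smul_dotProduct, smul_dotProduct,
        dotProduct_smul, e1, e2, ecc] at this
      simpa [smul_eq_mul] using this
    have hLt : ∀ b ∈ cs (F := F) s, ∀ t' : F, tv b (t' • Pi.single c 1) ∈ H := by
      intro b hb t'
      rw [← tv_smul_left t' (by rw [single_dotProduct, hb c hc, mul_zero])]
      exact hL _ ((cs s).smul_mem t' hb)
    have hRs : ∀ p ∈ cs (F := F) s, ∀ t' : F, tv (t' • Pi.single c 1) p ∈ H := by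
      intro p hp t'
      rw [tv_smul_left t' (by rw [dotProduct_single, hp c hc, zero_mul])]
      exact hR _ ((cs s).smul_mem t' hp)
    by_cases hs : s' = 0
    · subst hs
      rw [mul_zero, add_zero] at e3
      rw [zero_smul, add_zero, tv_add_right e3 (by rw [smul_dotProduct, e2, smul_zero])]
      exact mul_mem (hT a ha φ hφ e3) (hLt a ha t)
    have hg0 : (s'⁻¹ • (Pi.single c 1 : ι → F)) ⬝ᵥ a = 0 := by rw [smul_dotProduct, e2, smul_zero]
    have h5 := mul_mem (mul_mem (hLt a ha s'⁻¹) (hRs φ hφ s')) (inv_mem (hLt a ha s'⁻¹))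
    rw [conj_tv_tv hg0 (by rw [dotProduct_smul, e1, smul_zero])] at h5
    have e4 : (s'⁻¹ • (Pi.single c 1 : ι → F)) ⬝ᵥ (s' • Pi.single c 1) = 1 := by
      rw [smul_dotProduct, dotProduct_smul, ecc, smul_eq_mul, smul_eq_mul, mul_one, inv_mul_cancel₀ hs]
    have e6 : (φ ⬝ᵥ a) • s'⁻¹ • (Pi.single c 1 : ι → F) = -(t • Pi.single c 1) := by
      have : φ ⬝ᵥ a = -(t * s') := by linear_combination e3
      rw [smul_smul, this, ← neg_smul]
      congr 1
      rw [neg_mul, mul_assoc, mul_inv_cancel₀ hs, mul_one]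
    rw [e4, one_smul, e6, sub_neg_eq_add, add_comm (s' • (Pi.single c 1 : ι → F)) a] at h5
    exact h5

theorem Full.natG (h : Full H I) : NatG F I ≤ H := NatG_le h.hasT

set_option maxHeartbeats 1000000 in
/-- **the growth step** -/
theorem grow_step (hI : NatG F I ≤ H) {d e c : ι} (hd : d ∈ I) (he : e ∈ I) (hde : d ≠ e) (hc : c ∉ I)
    {z : Matrix.SpecialLinearGroup ι F} (hz : z ∈ H)
    (z1 : ∀ i, i ≠ d → i ≠ c → z.1 i d = 0) (z2 : ∀ j, j ≠ d → j ≠ c → (z⁻¹).1 d j = 0)
    (z3 : ∀ i, i ∉ I → (z⁻¹).1 i e = 0) (z4 : ∀ j, j ∉ I → z.1 e j = 0)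
    (z5 : (z⁻¹).1 d e = 0) (z6 : z.1 e d = 0) (hC : z.1 c d ≠ 0) (hB : (z⁻¹).1 d c ≠ 0) :
    NatG F (insert c I) ≤ H := by
  have hT : HasT H (cs I) (cs I) := fun v hv f hf hvf => hI (hasT_NatG I v hv f hf hvf)
  have hcd : c ≠ d := fun h => hc (h ▸ hd)
  have hce : c ≠ e := fun h => hc (h ▸ he)
  have hzz : (z⁻¹).1 * z.1 = 1 := by
    rw [← Matrix.SpecialLinearGroup.coe_mul, inv_mul_cancel, Matrix.SpecialLinearGroup.coe_one]
  have hzz' : z.1 * (z⁻¹).1 = 1 := by
    rw [← Matrix.SpecialLinearGroup.coe_mul, mul_inv_cancel, Matrix.SpecialLinearGroup.coe_one]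
  -- the column `d` of `z`, the row `d` of `z⁻¹`
  have hzd : z.1 *ᵥ Pi.single d 1 = Pi.single d (z.1 d d) + Pi.single c (z.1 c d) := by
    ext i
    rw [mulVec_single_one, col_apply]
    by_cases h1 : i = d
    · subst h1; simp [hcd.symm]
    · by_cases h2 : i = c
      · subst h2; simp [hcd]
      · rw [z1 i h1 h2]; simp [h1, h2]
  have hdz : Pi.single d 1 ᵥ* (z⁻¹).1 = Pi.single d ((z⁻¹).1 d d) + Pi.single c ((z⁻¹).1 d c) := by
    ext j
    rw [single_one_vecMul, row_apply]
    by_cases h1 : j = d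
    · subst h1; simp [hcd.symm]
    · by_cases h2 : j = c
      · subst h2; simp [hcd]
      · rw [z2 j h1 h2]; simp [h1, h2]
  have hAB : (z⁻¹).1 d d * z.1 d d + (z⁻¹).1 d c * z.1 c d = 1 := by
    have h1 : (Pi.single d 1 ᵥ* (z⁻¹).1) ⬝ᵥ (z.1 *ᵥ Pi.single d 1) = 1 := by
      rw [dotProduct_mulVec, vecMul_vecMul, hzz, vecMul_one]
      simp
    rw [hzd, hdz] at h1
    simpa [hcd, hcd.symm] using h1
  set v : ι → F := Pi.single d 1 + (z⁻¹).1 *ᵥ Pi.single e 1 with hv
  set f : ι → F := Pi.single d 1 - Pi.single e 1 ᵥ* z.1 with hf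
  have hvI : v ∈ cs (F := F) I := by
    rw [hv]
    refine Submodule.add_mem _ (single_mem_cs hd _) ?_
    intro i hi
    rw [mulVec_single_one, col_apply]
    exact z3 i hi
  have hfI : f ∈ cs (F := F) I := by
    rw [hf]
    refine Submodule.sub_mem _ (single_mem_cs hd _) ?_
    intro i hi
    rw [single_one_vecMul, row_apply]
    exact z4 i hi
  have h1 : (Pi.single e 1 ᵥ* z.1) ⬝ᵥ ((z⁻¹).1 *ᵥ Pi.single e 1) = 1 := by
    rw [dotProduct_mulVec, vecMul_vecMul, hzz', vecMul_one]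
    simp
  have h2 : (Pi.single d 1 : ι → F) ⬝ᵥ ((z⁻¹).1 *ᵥ Pi.single e 1) = 0 := by
    rw [mulVec_single_one, single_dotProduct, col_apply, z5, mul_zero]
  have h3 : (Pi.single e 1 ᵥ* z.1) ⬝ᵥ (Pi.single d 1 : ι → F) = 0 := by
    rw [single_one_vecMul, dotProduct_single, row_apply, z6, zero_mul]
  have hfv : f ⬝ᵥ v = 0 := by
    rw [hf, hv, sub_dotProduct, dotProduct_add, dotProduct_add, h1, h2, h3]
    simp
  have ht := mul_mem (mul_mem hz (hT v hvI f hfI hfv)) (inv_mem hz)
  rw [conj_tv z hfv] at ht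
  have e1 : z.1 *ᵥ v = (Pi.single d (z.1 d d) + Pi.single e 1) + Pi.single c (z.1 c d) := by
    rw [hv, mulVec_add, hzd, mulVec_mulVec, hzz', one_mulVec]
    abel
  have e2 : f ᵥ* (z⁻¹).1 = (Pi.single d ((z⁻¹).1 d d) - Pi.single e 1) + Pi.single c ((z⁻¹).1 d c) := by
    rw [hf, sub_vecMul, hdz, vecMul_vecMul, hzz', vecMul_one]
    abel
  rw [e1, e2] at ht
  have ma : (Pi.single d (z.1 d d) + Pi.single e 1 : ι → F) ∈ cs (F := F) I :=
    (cs I).add_mem (single_mem_cs hd _) (single_mem_cs he _)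
  have mf : (Pi.single d ((z⁻¹).1 d d) - Pi.single e 1 : ι → F) ∈ cs (F := F) I :=
    (cs (F := F) I).sub_mem (single_mem_cs hd _) (single_mem_cs he _)
  have hdot : (Pi.single d ((z⁻¹).1 d d) - Pi.single e 1 : ι → F) ⬝ᵥ (Pi.single d (z.1 d d) + Pi.single e 1) =
      (z⁻¹).1 d d * z.1 d d - 1 := by
    simp [hde, hde.symm]
    ring
  have n1 : (Pi.single d ((z⁻¹).1 d d) - Pi.single e 1 : ι → F) ⬝ᵥ (Pi.single d (z.1 d d) + Pi.single e 1) ≠ 0 := by
    rw [hdot]
    have h6 : (z⁻¹).1 d d * z.1 d d - 1 = -((z⁻¹).1 d c * z.1 c d) := by linear_combination hAB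
    rw [h6]
    exact neg_ne_zero.2 (mul_ne_zero hB hC)
  have n2 : ∀ f ∈ cs (F := F) I, f ⬝ᵥ (Pi.single c (z.1 c d)) = 0 := by
    intro f hf
    rw [dotProduct_single, hf c hc, zero_mul]
  have n3 : ∀ v ∈ cs (F := F) I, (Pi.single c ((z⁻¹).1 d c) : ι → F) ⬝ᵥ v = 0 := by
    intro v hv
    rw [single_dotProduct, hv c hc, mul_zero]
  have n4 : (Pi.single d ((z⁻¹).1 d d) - Pi.single e 1 : ι → F) ⬝ᵥ (Pi.single d (z.1 d d) + Pi.single e 1) +
      (Pi.single c ((z⁻¹).1 d c) : ι → F) ⬝ᵥ (Pi.single c (z.1 c d)) = 0 := by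
    rw [hdot]
    simp only [single_dotProduct, Pi.single_eq_same]
    linear_combination hAB
  have m1 : (Pi.single d 1 + Pi.single e ((z⁻¹).1 d d) : ι → F) ∈ cs (F := F) I :=
    (cs (F := F) I).add_mem (single_mem_cs hd _) (single_mem_cs he _)
  have m2 : (Pi.single d 1 - Pi.single e (z.1 d d) : ι → F) ∈ cs (F := F) I :=
    (cs (F := F) I).sub_mem (single_mem_cs hd _) (single_mem_cs he _)
  have m3 : (Pi.single d 1 + Pi.single e ((z⁻¹).1 d d) : ι → F) ≠ 0 := by
    intro h
    have := congrFun h d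
    simp [hde] at this
  have m4 : (Pi.single d 1 - Pi.single e (z.1 d d) : ι → F) ≠ 0 := by
    intro h
    have := congrFun h d
    simp [hde] at this
  have m5 : (Pi.single d ((z⁻¹).1 d d) - Pi.single e 1 : ι → F) ⬝ᵥ (Pi.single d 1 + Pi.single e ((z⁻¹).1 d d)) = 0 := by
    simp [hde, hde.symm]
  have m6 : (Pi.single d 1 - Pi.single e (z.1 d d) : ι → F) ⬝ᵥ (Pi.single d (z.1 d d) + Pi.single e 1) = 0 := by
    simp [hde, hde.symm]
  have h5 := hT.grow (sep_cs I) ma mf n1 n2 n3 n4 ⟨_, m1, m3, m5⟩ ⟨_, m2, m4, m6⟩ ht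
  exact NatG_le (h5.mono (cs_insert_le hC) (cs_insert_le hB))

end general

section fin

variable {F : Type*} [Field F] {n : ℕ}

/-- paired indices: `i`, `i + s` with `S i` -/
def Pr (s : ℕ) (S : ℕ → Prop) (i j : ℕ) : Prop := i = j ∨ (j = i + s ∧ S i) ∨ (i = j + s ∧ S j)

theorem Pr.symm {s : ℕ} {S : ℕ → Prop} {i j : ℕ} (h : Pr s S i j) : Pr s S j i := by
  rcases h with h | h | h
  · exact Or.inl h.symm
  · exact Or.inr (Or.inr h)
  · exact Or.inr (Or.inl h)

theorem Pr.trans {s : ℕ} {S : ℕ → Prop} (hS : ∀ i, S i → ¬ S (i + s)) {i j k : ℕ} (h1 : Pr s S i j)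
    (h2 : Pr s S j k) : Pr s S i k := by
  rcases h1 with h1 | ⟨h1, h1'⟩ | ⟨h1, h1'⟩
  · rw [h1]; exact h2
  · rcases h2 with h2 | ⟨h2, h2'⟩ | ⟨h2, h2'⟩
    · rw [← h2]; exact Or.inr (Or.inl ⟨h1, h1'⟩)
    · exact absurd (h1 ▸ h2') (hS i h1')
    · left
      omega
  · rcases h2 with h2 | ⟨h2, h2'⟩ | ⟨h2, h2'⟩
    · rw [← h2]; exact Or.inr (Or.inr ⟨h1, h1'⟩)
    · left
      omega
    · exact absurd (h2 ▸ h1') (hS k h2')

/-- block-diagonal matrices for the pairs `i`, `i + s` with `S i` -/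
def BD (s : ℕ) (S : ℕ → Prop) (z : Matrix (Fin n) (Fin n) F) : Prop := ∀ i j : Fin n, ¬ Pr s S i j → z i j = 0

variable {s : ℕ} {S : ℕ → Prop}

theorem BD.mul (hS : ∀ i, S i → ¬ S (i + s)) {z w : Matrix (Fin n) (Fin n) F} (hz : BD s S z) (hw : BD s S w) :
    BD s S (z * w) := by
  intro i j hij
  rw [mul_apply]
  refine Finset.sum_eq_zero fun k _ => ?_
  by_cases h : Pr s S i k
  · rw [hw k j (fun h' => hij (h.trans hS h')), mul_zero]
  · rw [hz i k h, zero_mul]

theorem BD.one : BD s S (1 : Matrix (Fin n) (Fin n) F) := by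
  intro i j hij
  rw [one_apply_ne]
  rintro rfl
  exact hij (Or.inl rfl)

theorem BD.add {z w : Matrix (Fin n) (Fin n) F} (hz : BD s S z) (hw : BD s S w) : BD s S (z + w) := by
  intro i j hij
  rw [Matrix.add_apply, hz i j hij, hw i j hij, add_zero]

theorem BD.transpose {z : Matrix (Fin n) (Fin n) F} (hz : BD s S z) : BD s S zᵀ := by
  intro i j hij
  rw [transpose_apply, hz j i fun h => hij h.symm]

/-- the first `m` indices -/
def lo (n m : ℕ) : Finset (Fin n) := Finset.univ.filter fun i => (i : ℕ) < m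

theorem mem_lo {m : ℕ} {i : Fin n} : i ∈ lo n m ↔ (i : ℕ) < m := by simp [lo]

/-- **growth to the top** -/
theorem grow_top {H : Subgroup (Matrix.SpecialLinearGroup (Fin n) F)} {m s : ℕ} (hs : 1 ≤ s) (hm : s < m)
    {S : ℕ → ℕ → Prop} (hS : ∀ p i, S p i → ¬ S p (i + s)) (hcov : ∀ i, ∃ p < 2, S p i)
    (hI : NatG F (lo n m) ≤ H)
    (z : ℕ → Matrix.SpecialLinearGroup (Fin n) F) (hz : ∀ p < 2, z p ∈ H) (h1 : ∀ p < 2, BD s (S p) (z p).1)
    (h2 : ∀ p < 2, BD s (S p) ((z p)⁻¹).1)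
    (h3 : ∀ p < 2, ∀ i j : Fin n, S p i → (j : ℕ) = i + s → (z p).1 j i ≠ 0 ∧ ((z p)⁻¹).1 i j ≠ 0) :
    H = ⊤ := by
  have key : ∀ k, NatG F (lo n (m + k)) ≤ H := by
    intro k
    induction k with
    | zero => exact hI
    | succ k ih =>
      by_cases hk : n ≤ m + k
      · refine le_trans (NatG_mono ?_) ih
        intro i _
        rw [mem_lo]
        exact i.2.trans_le hk
      · push Not at hk
        obtain ⟨p, hp, hpS⟩ := hcov (m + k - s)
        obtain ⟨d, hdv⟩ : ∃ d : Fin n, (d : ℕ) = m + k - s := ⟨⟨m + k - s, by omega⟩, rfl⟩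
        obtain ⟨c, hcv⟩ : ∃ c : Fin n, (c : ℕ) = m + k := ⟨⟨m + k, hk⟩, rfl⟩
        obtain ⟨e, hev⟩ : ∃ e : Fin n, (e : ℕ) = 0 := ⟨⟨0, by omega⟩, rfl⟩
        have hdc : (c : ℕ) = d + s := by omega
        rw [← hdv] at hpS
        have hlo : lo n (m + (k + 1)) = insert c (lo n (m + k)) := by
          ext i
          rw [Finset.mem_insert, mem_lo, mem_lo, Fin.ext_iff]
          omega
        rw [hlo]
        have n1 : ∀ i : Fin n, i ≠ d → i ≠ c → ¬ Pr s (S p) i d := by
          intro i hi1 hi2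
          rw [Ne, Fin.ext_iff] at hi1 hi2
          rintro (h | ⟨h, h'⟩ | ⟨h, h'⟩)
          · omega
          · exact hS p i h' (h ▸ hpS)
          · omega
        have n2 : ∀ i : Fin n, i ∉ lo n (m + k) → ¬ Pr s (S p) i e := by
          intro i hi
          rw [mem_lo] at hi
          rintro (h | ⟨h, h'⟩ | ⟨h, h'⟩) <;> omega
        have n3 : ¬ Pr s (S p) d e := by
          rintro (h | ⟨h, h'⟩ | ⟨h, h'⟩)
          · omega
          · omega
          · exact hS p e h' (h ▸ hpS)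
        exact grow_step ih (d := d) (e := e) (c := c) (mem_lo.2 (by omega)) (mem_lo.2 (by omega))
          (by rw [Ne, Fin.ext_iff]; omega) (by rw [mem_lo]; omega) (hz p hp)
          (fun i hi1 hi2 => h1 p hp i d (n1 i hi1 hi2)) (fun i hi1 hi2 => h2 p hp d i fun h => n1 i hi1 hi2 h.symm)
          (fun i hi => h2 p hp i e (n2 i hi)) (fun i hi => h1 p hp e i fun h => n2 i hi h.symm)
          (h2 p hp d e n3) (h1 p hp e d fun h => n3 h.symm)
          (h3 p hp d c hpS hdc).1 (h3 p hp d c hpS hdc).2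
  rw [eq_top_iff, ← NatG_univ]
  refine le_trans (NatG_mono ?_) (key n)
  intro i _
  rw [mem_lo]
  have := i.2
  omega

/-! ### The shift matrices -/

/-- `∑ w i E_{i, i + s}` over the `i` with `S i` -/
def Nw (s : ℕ) (S : ℕ → Prop) [DecidablePred S] (w : Fin n → F) : Matrix (Fin n) (Fin n) F :=
  Matrix.of fun i j => if (j : ℕ) = i + s ∧ S i then w i else 0

variable [DecidablePred S]

theorem Nw_apply (w : Fin n → F) (i j : Fin n) : Nw s S w i j = if (j : ℕ) = i + s ∧ S i then w i else 0 := rfl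

theorem BD_Nw (w : Fin n → F) : BD s S (Nw s S w) := by
  intro i j hij
  rw [Nw_apply, if_neg]
  exact fun h => hij (Or.inr (Or.inl h))

theorem Nw_mul_Nw (hS : ∀ i, S i → ¬ S (i + s)) (w w' : Fin n → F) : Nw s S w * Nw s S w' = 0 := by
  ext i j
  rw [mul_apply, Matrix.zero_apply]
  refine Finset.sum_eq_zero fun k _ => ?_
  rw [Nw_apply, Nw_apply]
  by_cases h : (k : ℕ) = i + s ∧ S i
  · rw [if_neg (c := (j : ℕ) = k + s ∧ S k), mul_zero]
    rintro ⟨-, h'⟩
    exact hS i h.2 (h.1 ▸ h')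
  · rw [if_neg h, zero_mul]

theorem Nw_add (w w' : Fin n → F) : Nw s S w + Nw s S w' = Nw s S (w + w') := by
  ext i j
  rw [Matrix.add_apply, Nw_apply, Nw_apply, Nw_apply]
  split_ifs <;> simp

theorem det_one_add_Nw (hs : 1 ≤ s) (w : Fin n → F) : (1 + Nw s S w).det = 1 := by
  rw [Matrix.det_of_isUpperTriangular]
  · refine Finset.prod_eq_one fun i _ => ?_
    rw [Matrix.add_apply, one_apply_eq, Nw_apply, if_neg, add_zero]
    omega
  · intro i j hij
    have h1 : (j : ℕ) < i := hij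
    rw [Matrix.add_apply, one_apply_ne (by rintro rfl; omega), Nw_apply, if_neg, add_zero]
    omega

/-- upper shift element -/
def uN (hs : 1 ≤ s) (S : ℕ → Prop) [DecidablePred S] (w : Fin n → F) : Matrix.SpecialLinearGroup (Fin n) F :=
  ⟨1 + Nw s S w, det_one_add_Nw hs w⟩

/-- lower shift element -/
def lN (hs : 1 ≤ s) (S : ℕ → Prop) [DecidablePred S] (w : Fin n → F) : Matrix.SpecialLinearGroup (Fin n) F :=
  ⟨1 + (Nw s S w)ᵀ, by
    have := det_one_add_Nw (S := S) hs w
    rw [← det_transpose, transpose_add, transpose_one] at this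
    exact this⟩

variable {hs : 1 ≤ s}

theorem coe_uN (w : Fin n → F) : (uN hs S w).1 = 1 + Nw s S w := rfl

theorem coe_lN (w : Fin n → F) : (lN hs S w).1 = 1 + (Nw s S w)ᵀ := rfl

theorem uN_mul (hS : ∀ i, S i → ¬ S (i + s)) (w w' : Fin n → F) : uN hs S w * uN hs S w' = uN hs S (w + w') := by
  apply Subtype.ext
  change (1 + Nw s S w) * (1 + Nw s S w') = 1 + Nw s S (w + w')
  rw [← Nw_add, mul_add, mul_one, add_mul, one_mul, Nw_mul_Nw hS, add_zero, add_assoc]

theorem lN_mul (hS : ∀ i, S i → ¬ S (i + s)) (w w' : Fin n → F) : lN hs S w * lN hs S w' = lN hs S (w + w') := by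
  apply Subtype.ext
  change (1 + (Nw s S w)ᵀ) * (1 + (Nw s S w')ᵀ) = 1 + (Nw s S (w + w'))ᵀ
  rw [← Nw_add, transpose_add, mul_add, mul_one, add_mul, one_mul, ← transpose_mul, Nw_mul_Nw hS, transpose_zero,
    add_zero, add_assoc]

theorem Nw_zero : Nw s S (0 : Fin n → F) = 0 := by
  ext i j
  rw [Nw_apply]
  split_ifs <;> rfl

theorem uN_inv (hS : ∀ i, S i → ¬ S (i + s)) (w : Fin n → F) : (uN hs S w)⁻¹ = uN hs S (-w) := by
  rw [inv_eq_iff_mul_eq_one, uN_mul hS, add_neg_cancel]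
  apply Subtype.ext
  rw [coe_uN, Nw_zero, add_zero]
  rfl

theorem lN_inv (hS : ∀ i, S i → ¬ S (i + s)) (w : Fin n → F) : (lN hs S w)⁻¹ = lN hs S (-w) := by
  rw [inv_eq_iff_mul_eq_one, lN_mul hS, add_neg_cancel]
  apply Subtype.ext
  rw [coe_lN, Nw_zero, transpose_zero, add_zero]
  rfl

theorem BD_uN (w : Fin n → F) : BD s S (uN hs S w).1 := BD.one.add (BD_Nw w)

theorem BD_lN (w : Fin n → F) : BD s S (lN hs S w).1 := BD.one.add (BD_Nw w).transpose

/-- the row `j` of `uN`, `j` an upper index -/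
theorem uN_row (hS : ∀ i, S i → ¬ S (i + s)) (w : Fin n → F) {i j : Fin n} (hi : S i) (hij : (j : ℕ) = i + s)
    (k : Fin n) : (uN hs S w).1 j k = if j = k then 1 else 0 := by
  rw [coe_uN, Matrix.add_apply, Nw_apply, if_neg, add_zero, one_apply]
  rintro ⟨-, h⟩
  exact hS i hi (hij ▸ h)

/-- the column `i` of `uN`, `i` a lower index -/
theorem uN_col (hS : ∀ i, S i → ¬ S (i + s)) (w : Fin n → F) {i : Fin n} (hi : S i) (k : Fin n) :
    (uN hs S w).1 k i = if k = i then 1 else 0 := by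
  rw [coe_uN, Matrix.add_apply, Nw_apply, if_neg, add_zero, one_apply]
  rintro ⟨h, h'⟩
  exact hS k h' (h ▸ hi)

theorem lN_row (hS : ∀ i, S i → ¬ S (i + s)) (w : Fin n → F) {i : Fin n} (hi : S i) (k : Fin n) :
    (lN hs S w).1 i k = if i = k then 1 else 0 := by
  rw [coe_lN, Matrix.add_apply, transpose_apply, Nw_apply, if_neg, add_zero, one_apply]
  rintro ⟨h, h'⟩
  exact hS k h' (h ▸ hi)

theorem uN_apply (w : Fin n → F) {i j : Fin n} (hi : S i) (hij : (j : ℕ) = i + s) : (uN hs S w).1 i j = w i := by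
  rw [coe_uN, Matrix.add_apply, Nw_apply, if_pos ⟨hij, hi⟩, one_apply_ne, zero_add]
  rintro rfl
  omega

theorem lN_apply (w : Fin n → F) {i j : Fin n} (hi : S i) (hij : (j : ℕ) = i + s) : (lN hs S w).1 j i = w i := by
  rw [coe_lN, Matrix.add_apply, transpose_apply, Nw_apply, if_pos ⟨hij, hi⟩, one_apply_ne, zero_add]
  rintro rfl
  omega

theorem uN_apply_self (w : Fin n → F) (i : Fin n) : (uN hs S w).1 i i = 1 := by
  rw [coe_uN, Matrix.add_apply, Nw_apply, if_neg, add_zero, one_apply_eq]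
  omega

theorem lN_apply_self (w : Fin n → F) (i : Fin n) : (lN hs S w).1 i i = 1 := by
  rw [coe_lN, Matrix.add_apply, transpose_apply, Nw_apply, if_neg, add_zero, one_apply_eq]
  omega

/-- the element `uN w * lN c` -/
theorem ul_ne (hS : ∀ i, S i → ¬ S (i + s)) {w c : Fin n → F} (hw : ∀ i, w i ≠ 0) (hc : ∀ i, c i ≠ 0) {i j : Fin n}
    (hi : S i) (hij : (j : ℕ) = i + s) :
    (uN hs S w * lN hs S c).1 j i ≠ 0 ∧ ((uN hs S w * lN hs S c)⁻¹).1 i j ≠ 0 := by
  constructor
  · rw [Matrix.SpecialLinearGroup.coe_mul, mul_apply, Finset.sum_eq_single j]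
    · rw [uN_row hS w hi hij, if_pos rfl, one_mul, lN_apply c hi hij]
      exact hc i
    · intro k _ hk
      rw [uN_row hS w hi hij, if_neg (Ne.symm hk), zero_mul]
    · intro h
      exact absurd (Finset.mem_univ j) h
  · rw [_root_.mul_inv_rev, lN_inv hS, uN_inv hS, Matrix.SpecialLinearGroup.coe_mul, mul_apply, Finset.sum_eq_single i]
    · rw [lN_row hS _ hi, if_pos rfl, one_mul, uN_apply _ hi hij]
      exact neg_ne_zero.2 (hw i)
    · intro k _ hk
      rw [lN_row hS _ hi, if_neg (Ne.symm hk), zero_mul]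
    · intro h
      exact absurd (Finset.mem_univ i) h

/-- the element `uN 1 * lN κ * uN (-1)` -/
theorem ulu_ne (hS : ∀ i, S i → ¬ S (i + s)) {κ : F} (hκ : κ ≠ 0) {i j : Fin n} (hi : S i) (hij : (j : ℕ) = i + s) :
    (uN hs S (fun _ => 1) * lN hs S (fun _ => κ) * uN hs S (fun _ => -1)).1 j i ≠ 0 ∧
      ((uN hs S (fun _ => 1) * lN hs S (fun _ => κ) * uN hs S (fun _ => -1))⁻¹).1 i j ≠ 0 := by
  have hji : j ≠ i := by
    rintro rfl
    omega
  have n1 : uN hs S (fun _ : Fin n => (-1 : F)) = (uN hs S (fun _ => 1))⁻¹ := by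
    rw [uN_inv hS]
    rfl
  have n2 : (uN hs S (fun _ : Fin n => (1 : F)) * lN hs S (fun _ => κ) * uN hs S (fun _ => -1))⁻¹ =
      uN hs S (fun _ => 1) * lN hs S (fun _ => -κ) * uN hs S (fun _ => -1) := by
    rw [n1, _root_.mul_inv_rev, inv_inv, _root_.mul_inv_rev, lN_inv hS, mul_assoc]
    rfl
  rw [n2]
  have key : ∀ c : F, (uN hs S (fun _ : Fin n => (1 : F)) * lN hs S (fun _ => c) * uN hs S (fun _ => -1)).1 j i = c := by
    intro c
    rw [Matrix.SpecialLinearGroup.coe_mul, mul_apply, Finset.sum_eq_single i]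
    · rw [uN_col hS _ hi, if_pos rfl, mul_one, Matrix.SpecialLinearGroup.coe_mul, mul_apply, Finset.sum_eq_single j]
      · rw [uN_row hS _ hi hij, if_pos rfl, one_mul, lN_apply _ hi hij]
      · intro k _ hk
        rw [uN_row hS _ hi hij, if_neg (Ne.symm hk), zero_mul]
      · intro h
        exact absurd (Finset.mem_univ j) h
    · intro k _ hk
      rw [uN_col hS _ hi, if_neg hk, mul_zero]
    · intro h
      exact absurd (Finset.mem_univ i) h
  refine ⟨by rw [key]; exact hκ, ?_⟩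
  have hne : ∀ k : Fin n, k ≠ i → k ≠ j → (lN hs S (fun _ : Fin n => -κ)).1 i k = 0 := by
    intro k hk1 hk2
    rw [lN_row hS _ hi, if_neg (Ne.symm hk1)]
  -- entry `(i, j)`
  have e1 : ∀ k : Fin n, (uN hs S (fun _ : Fin n => (1 : F)) * lN hs S (fun _ => -κ)).1 i k =
      (lN hs S (fun _ : Fin n => -κ)).1 i k + (lN hs S (fun _ : Fin n => -κ)).1 j k := by
    intro k
    rw [Matrix.SpecialLinearGroup.coe_mul, mul_apply]
    rw [Finset.sum_eq_add i j hji.symm]
    · rw [uN_apply_self, one_mul, uN_apply _ hi hij, one_mul]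
    · intro l _ hl
      rw [coe_uN, Matrix.add_apply, one_apply_ne (Ne.symm hl.1), Nw_apply, if_neg, add_zero, zero_mul]
      rintro ⟨h, -⟩
      apply hl.2
      rw [Fin.ext_iff]
      omega
    · intro h
      exact absurd (Finset.mem_univ i) h
    · intro h
      exact absurd (Finset.mem_univ j) h
  rw [Matrix.SpecialLinearGroup.coe_mul, mul_apply, Finset.sum_eq_add i j hji.symm]
  · rw [e1, e1, lN_apply_self, lN_apply _ hi hij, lN_row hS _ hi, if_neg hji.symm, lN_apply_self, uN_apply _ hi hij,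
      uN_apply_self]
    have : (1 + -κ) * -1 + (0 + 1) * 1 = κ := by ring
    rw [this]
    exact hκ
  · intro k _ hk
    have : (uN hs S (fun _ : Fin n => (-1 : F))).1 k j = 0 := by
      rw [coe_uN, Matrix.add_apply, one_apply_ne hk.2, Nw_apply, if_neg, add_zero]
      rintro ⟨h, -⟩
      apply hk.1
      rw [Fin.ext_iff]
      omega
    rw [this, mul_zero]
  · intro h
    exact absurd (Finset.mem_univ i) h
  · intro h
    exact absurd (Finset.mem_univ j) h

end fin

end Cfsg.Agent.H453.Gs
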