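import Cfsg.Agent.H453.Gs.Dual

/-!
# S4327, `SL_n(F)`: START for the orthogonal graph automorphisms (helper453)

* `El H i j` : all `E_{ij}(t)` in `H`; `El.comp`;
* `add_sq_top` : an additive subgroup closed under multiplication by squares;
* `gen_wxh` : `w, x(1), h(β)` generate `SL_2(F)`;
* `symm_odd`, `symm_even` : `Reach (da (dG d) 1) 6 ⊤`.
-/

set_option autoImplicit false

namespace Cfsg.Agent.H453.Gs

open Matrix Cfsg.Agent.H127.Gs Cfsg.Agent.ClassicalGeometry.AutPSL.Auto Cfsg.Agent.H514.DP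
open Cfsg.Agent.H915.Gs hiding cj

section general

variable {F : Type*} [Field F] {ι : Type*} [Fintype ι] [DecidableEq ι]

/-- all elementary transvections at `(i, j)` -/
def El (H : Subgroup (Matrix.SpecialLinearGroup ι F)) (i j : ι) : Prop :=
  ∀ t : F, tv (Pi.single i t) (Pi.single j 1) ∈ H

variable {H : Subgroup (Matrix.SpecialLinearGroup ι F)}

theorem tv_single_swap {i j : ι} (hij : i ≠ j) (t : F) :
    tv (Pi.single i t) (Pi.single j 1) = tv (Pi.single i 1) (Pi.single j t) := by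
  have h4 : (Pi.single i t : ι → F) = t • Pi.single i 1 := by
    rw [← Pi.single_smul', smul_eq_mul, mul_one]
  rw [h4, tv_smul_left t (by simp [hij]), ← Pi.single_smul', smul_eq_mul, mul_one]

theorem El_add {i j : ι} (hij : i ≠ j) (s t : F) :
    tv (Pi.single i (s + t)) (Pi.single j 1) = tv (Pi.single i s) (Pi.single j 1) * tv (Pi.single i t) (Pi.single j 1) := by
  rw [Pi.single_add, tv_add_left (by simp [hij]) (by simp [hij])]

theorem El_neg {i j : ι} (hij : i ≠ j) (t : F) :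
    tv (Pi.single i (-t)) (Pi.single j 1) = (tv (Pi.single i t) (Pi.single j 1))⁻¹ := by
  rw [Pi.single_neg, tv_inv (by simp [hij])]

/-- the additive subgroup of the `t` with `E_{ij}(t) ∈ H` -/
def Ad (H : Subgroup (Matrix.SpecialLinearGroup ι F)) (i j : ι) (hij : i ≠ j) : AddSubgroup F where
  carrier := {t | tv (Pi.single i t) (Pi.single j 1) ∈ H}
  add_mem' := fun {a b} ha hb => by
    rw [Set.mem_ofPred_eq, El_add hij]
    exact mul_mem ha hb
  zero_mem' := by
    rw [Set.mem_ofPred_eq, Pi.single_zero, tv_zero_left]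
    exact one_mem _
  neg_mem' := fun {a} ha => by
    rw [Set.mem_ofPred_eq, El_neg hij]
    exact inv_mem ha

theorem mem_Ad {i j : ι} {hij : i ≠ j} {t : F} : t ∈ Ad H i j hij ↔ tv (Pi.single i t) (Pi.single j 1) ∈ H := Iff.rfl

theorem El_of_top {i j : ι} (hij : i ≠ j) (h : Ad H i j hij = ⊤) : El H i j := fun t => by
  have : t ∈ Ad H i j hij := by rw [h]; trivial
  exact this

/-- conjugation by a diagonal element -/
theorem dS_conj {z : Matrix.SpecialLinearGroup ι F} {d : ι → Fˣ} (hz : z.1 = diagonal fun i => (d i : F)) {i j : ι}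
    (hij : i ≠ j) (t : F) :
    z * tv (Pi.single i t) (Pi.single j 1) * z⁻¹ = tv (Pi.single i ((d i : F) * t * ((d j)⁻¹ : Fˣ))) (Pi.single j 1) := by
  have e1 : (z⁻¹).1 = diagonal fun i => (((d i)⁻¹ : Fˣ) : F) := by
    have h1 : (z⁻¹).1 * z.1 = 1 := by
      rw [← Matrix.SpecialLinearGroup.coe_mul, inv_mul_cancel, Matrix.SpecialLinearGroup.coe_one]
    have h2 : z.1 * (diagonal fun i => (((d i)⁻¹ : Fˣ) : F)) = 1 := by
      rw [hz, diagonal_mul_diagonal, ← diagonal_one]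
      congr 1
      ext i
      rw [Units.mul_inv]
    calc (z⁻¹).1 = (z⁻¹).1 * (z.1 * (diagonal fun i => (((d i)⁻¹ : Fˣ) : F))) := by rw [h2, mul_one]
      _ = _ := by rw [← mul_assoc, h1, one_mul]
  have h0 : (Pi.single j 1 : ι → F) ⬝ᵥ Pi.single i t = 0 := by simp [hij]
  rw [conj_tv z h0]
  have e2 : z.1 *ᵥ (Pi.single i t : ι → F) = Pi.single i ((d i : F) * t) := by
    rw [hz]
    ext k
    rw [mulVec_diagonal]
    by_cases hk : k = i
    · subst hk; simp
    · simp [hk]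
  have e3 : (Pi.single j 1 : ι → F) ᵥ* (z⁻¹).1 = Pi.single j (((d j)⁻¹ : Fˣ) : F) := by
    rw [e1]
    ext k
    rw [vecMul_diagonal]
    by_cases hk : k = j
    · subst hk; simp
    · simp [hk]
  rw [e2, e3]
  have e4 : (Pi.single j (((d j)⁻¹ : Fˣ) : F) : ι → F) = (((d j)⁻¹ : Fˣ) : F) • Pi.single j 1 := by
    rw [← Pi.single_smul', smul_eq_mul, mul_one]
  rw [e4, ← tv_smul_left _ (by simp [hij]), ← Pi.single_smul', smul_eq_mul, mul_comm]

/-- composition -/
theorem El.comp_aux {i j k : ι} (hij : i ≠ j) (hjk : j ≠ k) (hik : i ≠ k) (s t : F)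
    (h1 : tv (Pi.single i s) (Pi.single j 1) ∈ H) (h2 : tv (Pi.single j t) (Pi.single k 1) ∈ H) :
    tv (Pi.single i (s * t)) (Pi.single k 1) ∈ H := by
  have h3 := mul_mem (mul_mem (mul_mem h1 h2) (inv_mem h1)) (inv_mem h2)
  rw [conj_tv_tv (by simp [hij]) (by simp [hjk])] at h3
  have e1 : (Pi.single j 1 : ι → F) ⬝ᵥ Pi.single j t = t := by simp
  have e2 : (Pi.single k 1 : ι → F) ⬝ᵥ Pi.single i s = 0 := by simp [hik]
  rw [e1, e2, zero_smul, sub_zero, add_comm, tv_add_left (by simp [hik]) (by simp [hjk]), mul_inv_cancel_right,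
    ← Pi.single_smul', smul_eq_mul, mul_comm t s] at h3
  exact h3

theorem El.comp {i j k : ι} (hij : i ≠ j) (hjk : j ≠ k) (hik : i ≠ k) (h1 : El H i j) (h2 : El H j k) : El H i k := by
  intro t
  have := El.comp_aux (H := H) hij hjk hik t 1 (h1 t) (h2 1)
  rwa [mul_one] at this

theorem Full.of_El {I : Finset ι} (h : ∀ i ∈ I, ∀ j ∈ I, i ≠ j → El H i j) : Full H I :=
  fun i hi j hj hij t => h i hi j hj hij t

end general

section squares

variable {F : Type*} [Field F] [Finite F]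

/-- an additive subgroup closed under multiplication by squares -/
theorem add_sq_top {A : AddSubgroup F} {c : F} (hc : c ≠ 0) (h : ∀ s : F, s ≠ 0 → s ^ 2 * c ∈ A) : A = ⊤ := by
  have h' : ∀ s : F, s ^ 2 * c ∈ A := by
    intro s
    by_cases hs : s = 0
    · rw [hs]
      simp
    · exact h s hs
  rw [eq_top_iff]
  intro x _
  by_cases h2 : (2 : F) = 0
  · obtain ⟨_⟩ := nonempty_fintype F
    have hc2 : ringChar F = 2 := by
      have : CharP F 2 := CharTwo.of_one_ne_zero_of_two_eq_zero one_ne_zero h2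
      exact ringChar.eq F 2
    obtain ⟨b, hb⟩ := FiniteField.isSquare_of_char_two hc2 (x * c⁻¹)
    have := h' b
    rw [pow_two, ← hb, inv_mul_cancel_right₀ hc] at this
    exact this
  · have e1 := A.sub_mem (h' ((x * c⁻¹ + 1) / 2)) (h' ((x * c⁻¹ - 1) / 2))
    have e2 : ((x * c⁻¹ + 1) / 2) ^ 2 * c - ((x * c⁻¹ - 1) / 2) ^ 2 * c = x := by
      field_simp
      ring
    rwa [e2] at e1

/-- a generator of the units -/
theorem exists_gen (F : Type*) [Field F] [Finite F] : ∃ β : Fˣ, ∀ s : Fˣ, ∃ k : ℕ, β ^ k = s := by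
  obtain ⟨β, hβ⟩ := IsCyclic.exists_generator (α := Fˣ)
  refine ⟨β, fun s => ?_⟩
  have h1 := hβ s
  rw [← mem_powers_iff_mem_zpowers] at h1
  obtain ⟨k, hk⟩ := h1
  exact ⟨k, hk⟩

end squares

section two

variable {F : Type*} [Field F]

/-- `x(t)` -/
def xx (t : F) : Matrix.SpecialLinearGroup (Fin 2) F := ⟨!![1, t; 0, 1], by simp [det_fin_two]⟩

/-- `y(t)` -/
def yy (t : F) : Matrix.SpecialLinearGroup (Fin 2) F := ⟨!![1, 0; t, 1], by simp [det_fin_two]⟩

/-- `w` -/
def ww (F : Type*) [Field F] : Matrix.SpecialLinearGroup (Fin 2) F := ⟨!![0, -1; 1, 0], by simp [det_fin_two]⟩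

/-- `h(s)` -/
def hh (s : Fˣ) : Matrix.SpecialLinearGroup (Fin 2) F := ⟨!![(s : F), 0; 0, ((s⁻¹ : Fˣ) : F)], by simp [det_fin_two]⟩

theorem tv01 (t : F) : tv (Pi.single (0 : Fin 2) t) (Pi.single 1 1) = xx t := by
  apply Subtype.ext
  have := coe_tv (v := (Pi.single (0 : Fin 2) t : Fin 2 → F)) (f := Pi.single 1 1) (by simp)
  rw [this]
  ext i j
  fin_cases i <;> fin_cases j <;> simp [xx, vecMulVec_apply]

theorem tv10 (t : F) : tv (Pi.single (1 : Fin 2) t) (Pi.single 0 1) = yy t := by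
  apply Subtype.ext
  have := coe_tv (v := (Pi.single (1 : Fin 2) t : Fin 2 → F)) (f := Pi.single 0 1) (by simp)
  rw [this]
  ext i j
  fin_cases i <;> fin_cases j <;> simp [yy, vecMulVec_apply]

theorem ww_conj (t : F) : ww F * xx t * (ww F)⁻¹ = yy (-t) := by
  rw [mul_inv_eq_iff_eq_mul]
  apply Subtype.ext
  rw [Matrix.SpecialLinearGroup.coe_mul, Matrix.SpecialLinearGroup.coe_mul]
  ext i j
  fin_cases i <;> fin_cases j <;> simp [ww, xx, yy, mul_apply, Fin.sum_univ_two]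

theorem hh_conj (s : Fˣ) (t : F) : hh s * xx t * (hh s)⁻¹ = xx ((s : F) ^ 2 * t) := by
  rw [mul_inv_eq_iff_eq_mul]
  apply Subtype.ext
  rw [Matrix.SpecialLinearGroup.coe_mul, Matrix.SpecialLinearGroup.coe_mul]
  ext i j
  fin_cases i <;> fin_cases j <;> simp [hh, xx, mul_apply, Fin.sum_univ_two]
  field_simp

theorem hh_pow (s : Fˣ) (k : ℕ) : hh s ^ k = hh (s ^ k) := by
  induction k with
  | zero =>
    rw [pow_zero, pow_zero]
    apply Subtype.ext
    ext i j
    fin_cases i <;> fin_cases j <;> simp [hh]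
  | succ k ih =>
    rw [pow_succ, pow_succ, ih]
    apply Subtype.ext
    rw [Matrix.SpecialLinearGroup.coe_mul]
    ext i j
    fin_cases i <;> fin_cases j <;> simp [hh, mul_apply, Fin.sum_univ_two, mul_comm]

/-- all of `SL_2` -/
theorem two_top {H : Subgroup (Matrix.SpecialLinearGroup (Fin 2) F)} (hx : ∀ t, xx t ∈ H) (hy : ∀ t, yy t ∈ H) :
    H = ⊤ := by
  rw [eq_top_iff, ← NatG_univ]
  apply Full.natG
  intro i _ j _ hij t
  fin_cases i <;> fin_cases j
  · exact absurd rfl hij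
  · change tv (Pi.single (0 : Fin 2) t) (Pi.single 1 1) ∈ H
    rw [tv01]; exact hx t
  · change tv (Pi.single (1 : Fin 2) t) (Pi.single 0 1) ∈ H
    rw [tv10]; exact hy t
  · exact absurd rfl hij

/-- `w`, `x(1)` and the torus generate -/
theorem gen_wxh [Finite F] {H : Subgroup (Matrix.SpecialLinearGroup (Fin 2) F)} {β : Fˣ}
    (hβ : ∀ s : Fˣ, ∃ k : ℕ, β ^ k = s) (hw : ww F ∈ H) (hh' : hh β ∈ H) {c : F} (hc : c ≠ 0) (hx : xx c ∈ H) :
    H = ⊤ := by
  have hX : ∀ t, xx t ∈ H := by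
    have h1 : Ad H 0 1 (by decide) = ⊤ := by
      refine add_sq_top hc fun s hs => ?_
      obtain ⟨k, hk⟩ := hβ (Units.mk0 s hs)
      rw [mem_Ad, tv01]
      have h2 := mul_mem (mul_mem (pow_mem hh' k) hx) (inv_mem (pow_mem hh' k))
      rw [hh_pow, hk, hh_conj] at h2
      exact h2
    intro t
    have h2 := El_of_top (by decide) h1 t
    rwa [tv01] at h2
  refine two_top hX fun t => ?_
  have h1 := mul_mem (mul_mem hw (hX (-t))) (inv_mem hw)
  rwa [ww_conj, neg_neg] at h1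

/-- the form of `da` on `SL_2` -/
theorem da_inv {κ : Type*} [Fintype κ] [DecidableEq κ] (h : GL κ F) (σ : F ≃+* F)
    (g : Matrix.SpecialLinearGroup κ F) :
    ((da h σ g)⁻¹).1 = h.1 * (g.1.map σ)ᵀ * (h⁻¹).1 := by
  rw [da_apply, ← map_inv, ← map_inv, ← map_inv, coe_cj]
  congr 2
  ext i j
  rw [coe_fld_apply, coe_itr, inv_inv, transpose_apply, transpose_apply, map_apply]

/-- `u a(u)⁻¹ = z` -/
theorem da_eq {κ : Type*} [Fintype κ] [DecidableEq κ] {h : GL κ F} {σ : F ≃+* F}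
    {g z : Matrix.SpecialLinearGroup κ F} (e : g.1 * h.1 * (g.1.map σ)ᵀ = z.1 * h.1) : g * (da h σ g)⁻¹ = z := by
  apply Subtype.ext
  rw [Matrix.SpecialLinearGroup.coe_mul, da_inv, ← mul_assoc, ← mul_assoc, e, mul_assoc, ← Units.val_mul,
    mul_inv_cancel, Units.val_one, mul_one]

/-- START, orthogonal, odd characteristic -/
theorem start_odd [Finite F] (h2 : (2 : F) ≠ 0) {d : Fin 2 → Fˣ} (h0 : d 0 = 1) (h1 : d 1 = -1) :
    ∃ u : Fin 3 → Matrix.SpecialLinearGroup (Fin 2) F,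
      Subgroup.closure (Set.range fun i => u i * (da (dG d) 1 (u i))⁻¹) = ⊤ := by
  obtain ⟨β, hβ⟩ := exists_gen F
  have hb := β.ne_zero
  let u0 : Matrix.SpecialLinearGroup (Fin 2) F := ⟨!![1, -1; 2⁻¹, 2⁻¹], by
    rw [det_fin_two_of]; field_simp; ring⟩
  let u1 : Matrix.SpecialLinearGroup (Fin 2) F := ⟨!![((β : F) + 1) / 2, ((β : F) - 1) / 2;
      ((β : F) - 1) / (2 * β), ((β : F) + 1) / (2 * β)], by
    rw [det_fin_two_of]; field_simp; ring⟩
  let u2 : Matrix.SpecialLinearGroup (Fin 2) F := ⟨!![1, 0; 1, 1], by simp [det_fin_two]⟩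
  let z2 : Matrix.SpecialLinearGroup (Fin 2) F := ⟨!![1, -1; 1, 0], by simp [det_fin_two]⟩
  have hd : (dG d).1 = !![1, 0; 0, -1] := by
    ext i j
    fin_cases i <;> fin_cases j <;> simp [dG, h0, h1]
  have hid : ∀ M : Matrix (Fin 2) (Fin 2) F, M.map (1 : F ≃+* F) = M := fun M => by ext i j; rfl
  have e0 : u0 * (da (dG d) 1 u0)⁻¹ = ww F := by
    apply da_eq
    rw [hd, hid]
    ext i j
    fin_cases i <;> fin_cases j <;>
      simp [u0, ww, mul_apply, Fin.sum_univ_two] <;> field_simp <;> ring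
  have e1 : u1 * (da (dG d) 1 u1)⁻¹ = hh β := by
    apply da_eq
    rw [hd, hid]
    ext i j
    fin_cases i <;> fin_cases j <;>
      simp [u1, hh, mul_apply, Fin.sum_univ_two] <;> field_simp <;> ring
  have e2 : u2 * (da (dG d) 1 u2)⁻¹ = z2 := by
    apply da_eq
    rw [hd, hid]
    ext i j
    fin_cases i <;> fin_cases j <;>
      simp [u2, z2, mul_apply, Fin.sum_univ_two]
  refine ⟨![u0, u1, u2], ?_⟩
  set H := Subgroup.closure (Set.range fun i => (![u0, u1, u2] : Fin 3 → _) i * (da (dG d) 1 ((![u0, u1, u2] : Fin 3 → _) i))⁻¹) with hH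
  have m0 : ww F ∈ H := by rw [← e0]; exact Subgroup.subset_closure ⟨0, rfl⟩
  have m1 : hh β ∈ H := by rw [← e1]; exact Subgroup.subset_closure ⟨1, rfl⟩
  have m2 : z2 ∈ H := by rw [← e2]; exact Subgroup.subset_closure ⟨2, rfl⟩
  have m3 : xx (1 : F) ∈ H := by
    have : xx (1 : F) = z2 * (ww F)⁻¹ := by
      rw [eq_mul_inv_iff_mul_eq]
      apply Subtype.ext
      rw [Matrix.SpecialLinearGroup.coe_mul]
      ext i j
      fin_cases i <;> fin_cases j <;> simp [z2, ww, xx, mul_apply, Fin.sum_univ_two]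
    rw [this]
    exact mul_mem m2 (inv_mem m0)
  exact gen_wxh hβ m0 m1 one_ne_zero m3

end two

end Cfsg.Agent.H453.Gs
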