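import Cfsg.Agent.H453.Gs.Kz

/-!
# S4327, `SL_n(F)`: the orthogonal graph automorphisms (helper453)

* `start_even` : START in characteristic two, in `SL_3(F)`;
* `symm_odd`, `symm_even` : `Reach (da (dG d) 1) 6 ⊤`.
-/

set_option autoImplicit false

namespace Cfsg.Agent.H453.Gs

open Matrix Cfsg.Agent.H127.Gs Cfsg.Agent.ClassicalGeometry.AutPSL.Auto Cfsg.Agent.H514.DP
open Cfsg.Agent.H915.Gs hiding cj

variable {F : Type*} [Field F]

theorem map_lo {k n m : ℕ} (hk : k ≤ n) (hm : m ≤ k) : (lo k m).map (Fin.castLEEmb hk) = lo n m := by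
  ext i
  rw [Finset.mem_map, mem_lo]
  constructor
  · rintro ⟨j, hj, rfl⟩
    rw [mem_lo] at hj
    exact hj
  · intro hi
    exact ⟨⟨i, by omega⟩, mem_lo.2 hi, Fin.ext rfl⟩

theorem map_one_eq {κ : Type*} (M : Matrix κ κ F) : M.map (1 : F ≃+* F) = M := by
  ext i j
  rfl

/-- START, orthogonal, characteristic two -/
theorem start_even [Finite F] (h2 : (2 : F) = 0) :
    ∃ u : Fin 3 → Matrix.SpecialLinearGroup (Fin 3) F,
      El (Kz (da (dG fun _ => 1) 1) u) 0 1 ∧ El (Kz (da (dG fun _ => 1) 1) u) 1 0 := by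
  obtain ⟨β, hβ⟩ := exists_gen F
  have hn1 : (-1 : F) = 1 := by linear_combination -h2
  have h11 : (1 : F) + 1 = 0 := by linear_combination h2
  obtain ⟨b, hb⟩ : ∃ b : F, (β : F) = b * b := by
    obtain ⟨_⟩ := nonempty_fintype F
    have hc2 : ringChar F = 2 := by
      have : CharP F 2 := CharTwo.of_one_ne_zero_of_two_eq_zero one_ne_zero h2
      exact ringChar.eq F 2
    exact FiniteField.isSquare_of_char_two hc2 β
  have hb0 : b ≠ 0 := by
    rintro rfl
    exact β.ne_zero (by rw [hb, mul_zero])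
  let u0 : Matrix.SpecialLinearGroup (Fin 3) F := ⟨!![0, 1, 1; 1, 0, 1; 1, 1, 1], by
    rw [det_fin_three]; simp⟩
  let u1 : Matrix.SpecialLinearGroup (Fin 3) F := ⟨!![0, 0, 1; 0, 1, 1; 1, 0, 0], by
    rw [det_fin_three]; simp [hn1]⟩
  let u2 : Matrix.SpecialLinearGroup (Fin 3) F := ⟨!![b, 0, 0; 0, b⁻¹, 0; 0, 0, 1], by
    rw [det_fin_three]; simp [hb0]⟩
  let z0 : Matrix.SpecialLinearGroup (Fin 3) F := ⟨!![0, 1, 0; 1, 0, 0; 0, 0, 1], by
    rw [det_fin_three]; simp [hn1]⟩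
  let z1 : Matrix.SpecialLinearGroup (Fin 3) F := ⟨!![1, 1, 0; 1, 0, 0; 0, 0, 1], by
    rw [det_fin_three]; simp [hn1]⟩
  let z2 : Matrix.SpecialLinearGroup (Fin 3) F := ⟨!![(β : F), 0, 0; 0, ((β⁻¹ : Fˣ) : F), 0; 0, 0, 1], by
    rw [det_fin_three]; simp⟩
  have hd : (dG (fun _ : Fin 3 => (1 : Fˣ))).1 = (1 : Matrix (Fin 3) (Fin 3) F) := by
    change diagonal _ = _
    simp
  have e0 : u0 * (da (dG fun _ => 1) 1 u0)⁻¹ = z0 := by
    apply da_eq
    rw [hd, map_one_eq, mul_one, mul_one]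
    ext i j
    fin_cases i <;> fin_cases j <;> simp [u0, z0, mul_apply, Fin.sum_univ_three, h11]
  have e1 : u1 * (da (dG fun _ => 1) 1 u1)⁻¹ = z1 := by
    apply da_eq
    rw [hd, map_one_eq, mul_one, mul_one]
    ext i j
    fin_cases i <;> fin_cases j <;> simp [u1, z1, mul_apply, Fin.sum_univ_three, h11]
  have e2 : u2 * (da (dG fun _ => 1) 1 u2)⁻¹ = z2 := by
    apply da_eq
    rw [hd, map_one_eq, mul_one, mul_one]
    ext i j
    fin_cases i <;> fin_cases j <;> simp [u2, z2, mul_apply, Fin.sum_univ_three, hb]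
  refine ⟨![u0, u1, u2], ?_⟩
  set H := Kz (da (dG fun _ => (1 : Fˣ)) 1) ![u0, u1, u2] with hH
  have m0 : z0 ∈ H := by rw [← e0]; exact mem_Kz _ _ 0
  have m1 : z1 ∈ H := by rw [← e1]; exact mem_Kz _ _ 1
  have m2 : z2 ∈ H := by rw [← e2]; exact mem_Kz _ _ 2
  have m3 : tv (Pi.single (0 : Fin 3) (1 : F)) (Pi.single 1 1) ∈ H := by
    have : tv (Pi.single (0 : Fin 3) (1 : F)) (Pi.single 1 1) = z1 * z0 := by
      apply Subtype.ext
      rw [Matrix.SpecialLinearGroup.coe_mul]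
      have h3 := coe_tv (v := (Pi.single (0 : Fin 3) 1 : Fin 3 → F)) (f := Pi.single 1 1) (by simp)
      rw [h3]
      ext i j
      fin_cases i <;> fin_cases j <;> simp [z0, z1, mul_apply, Fin.sum_univ_three, vecMulVec_apply]
    rw [this]
    exact mul_mem m1 m0
  have hz2 : ∀ k : ℕ, (z2 ^ k).1 = diagonal fun i => ((![β ^ k, (β⁻¹) ^ k, 1] : Fin 3 → Fˣ) i : F) := by
    intro k
    have e4 : z2.1 = diagonal (![(β : F), ((β⁻¹ : Fˣ) : F), 1]) := by
      ext i j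
      fin_cases i <;> fin_cases j <;> simp [z2]
    rw [Matrix.SpecialLinearGroup.coe_pow, e4, diagonal_pow]
    congr 1
    ext i
    fin_cases i <;> simp
  have hX : El H 0 1 := by
    apply El_of_top (by decide)
    refine add_sq_top (c := 1) one_ne_zero fun s hs => ?_
    obtain ⟨k, hk⟩ := hβ (Units.mk0 s hs)
    rw [mem_Ad]
    have h4 := mul_mem (mul_mem (pow_mem m2 k) m3) (inv_mem (pow_mem m2 k))
    rw [dS_conj (hz2 k) (by decide)] at h4
    have h5 : ((![β ^ k, (β⁻¹) ^ k, 1] : Fin 3 → Fˣ) 0 : F) * 1 *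
        (((![β ^ k, (β⁻¹) ^ k, 1] : Fin 3 → Fˣ) 1)⁻¹ : Fˣ) = s ^ 2 * 1 := by
      have h6 : ((![β ^ k, (β⁻¹) ^ k, 1] : Fin 3 → Fˣ) 1)⁻¹ = β ^ k := by simp
      rw [h6]
      change ((β ^ k : Fˣ) : F) * 1 * ((β ^ k : Fˣ) : F) = s ^ 2 * 1
      rw [hk]
      simp only [Units.val_mk0]
      ring
    rwa [h5] at h4
  refine ⟨hX, fun t => ?_⟩
  have h4 := mul_mem (mul_mem m0 (hX t)) (inv_mem m0)
  have h5 : z0⁻¹ = z0 := by
    rw [inv_eq_iff_mul_eq_one]
    apply Subtype.ext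
    rw [Matrix.SpecialLinearGroup.coe_mul]
    ext i j
    fin_cases i <;> fin_cases j <;> simp [z0, mul_apply, Fin.sum_univ_three]
  rw [conj_tv z0 (by simp), h5] at h4
  have e5 : z0.1 *ᵥ Pi.single 0 t = Pi.single 1 t := by
    ext i
    fin_cases i <;> simp [z0, mulVec, dotProduct, Fin.sum_univ_three]
  have e6 : Pi.single 1 1 ᵥ* z0.1 = Pi.single 0 1 := by
    ext i
    fin_cases i <;> simp [z0, vecMul, dotProduct, Fin.sum_univ_three]
  rwa [e5, e6] at h4

variable {n : ℕ}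

/-- **orthogonal graph automorphisms, characteristic two** -/
theorem symm_even [Finite F] (h2 : (2 : F) = 0) (hn : 3 ≤ n) :
    Reach (da (dG fun _ : Fin n => (1 : Fˣ)) 1) 11 ⊤ := by
  obtain ⟨u, h01, h10⟩ := start_even (F := F) h2
  have h1 := reach₁_El (a := da (dG fun _ : Fin n => (1 : Fˣ)) 1) (Fin.castLEEmb hn)
    (fun g => da_dG_emb (Fin.castLEEmb hn) _ 1 g) (u := u) (I := lo 3 2) (by
      intro i hi j hj hij
      rw [mem_lo] at hi hj
      fin_cases i <;> fin_cases j <;> simp at hi hj hij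
      · exact h01
      · exact h10)
  rw [map_lo hn (by norm_num)] at h1
  exact (reach_diag le_rfl h1).mono (by norm_num) (by norm_num)

/-- **orthogonal graph automorphisms, odd characteristic** -/
theorem symm_odd [Finite F] (h2 : (2 : F) ≠ 0) (hn : 2 ≤ n) {d : Fin n → Fˣ} (h0 : d ⟨0, by omega⟩ = 1)
    (h1 : d ⟨1, by omega⟩ = -1) : Reach (da (dG d) 1) 11 ⊤ := by
  obtain ⟨u, hu⟩ := start_odd (F := F) h2 (d := d ∘ Fin.castLEEmb hn) h0 h1
  have h1 := reach₁_El (a := da (dG d) 1) (Fin.castLEEmb hn)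
    (fun g => da_dG_emb (Fin.castLEEmb hn) _ 1 g) (u := u) (I := lo 2 2) (by
      intro i _ j _ hij t
      have : Kz (da (dG (d ∘ Fin.castLEEmb hn)) 1) u = ⊤ := hu
      rw [this]
      trivial)
  rw [map_lo hn le_rfl] at h1
  exact (reach_diag le_rfl h1).mono (by norm_num) (by norm_num)

end Cfsg.Agent.H453.Gs
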